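import Cfsg.Agent.SingerTI.AbelianChar
import Cfsg.Agent.CharInd.Coherence
import Cfsg.Agent.CharInd.Induced

/-!
# A trivial-intersection abelian subgroup with Frobenius normalizer: exceptional characters
-/

noncomputable section

namespace Cfsg.Agent.SingerTI

open scoped ComplexConjugate BigOperators
open Finset

universe u

variable {G : Type u} [Group G] [Fintype G]

/-- `W` is abelian, normal in `N` of index `e`, a trivial-intersection set outside `N`, and
elements of `N` outside `W` fix no non-identity element of `W`. -/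
structure Data (G : Type u) [Group G] where
  /-- The abelian subgroup. -/
  W : Subgroup G
  /-- Its normalizer. -/
  N : Subgroup G
  /-- The index. -/
  e : ℕ
  comm : ∀ a ∈ W, ∀ b ∈ W, a * b = b * a
  le : W ≤ N
  norm : ∀ n ∈ N, ∀ a ∈ W, n * a * n⁻¹ ∈ W
  cardN : Nat.card N = e * Nat.card W
  ti : ∀ g, g ∉ N → ∀ a ∈ W, g * a * g⁻¹ ∈ W → a = 1
  fpf : ∀ n ∈ N, n ∉ W → ∀ a ∈ W, n * a * n⁻¹ = a → a = 1

namespace Data

variable (D : Data G)

/-- The order of `W`. -/
def w : ℕ := Nat.card D.W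

theorem w_pos : 0 < D.w := Nat.card_pos

theorem w_ne : (D.w : ℂ) ≠ 0 := Nat.cast_ne_zero.2 D.w_pos.ne'

theorem commW (a b : D.W) : a * b = b * a := Subtype.ext (D.comm _ a.2 _ b.2)

/-- The linear characters of `W`. -/
abbrev Hom : Type u := D.W →* ℂˣ

/-- Conjugation by an element of `N`. -/
def cj (n : D.N) : D.W →* D.W where
  toFun a := ⟨(n : G) * a * (n : G)⁻¹, D.norm n n.2 a a.2⟩
  map_one' := Subtype.ext (by simp)
  map_mul' a b := Subtype.ext (by simp [mul_assoc])

theorem cj_apply (n : D.N) (a : D.W) : ((D.cj n a : D.W) : G) = (n : G) * a * (n : G)⁻¹ := rfl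

/-- The twist of a linear character by an element of `N`. -/
def tw (n : D.N) (f : D.Hom) : D.Hom := f.comp (D.cj n)

theorem tw_tw (m n : D.N) (f : D.Hom) : D.tw n (D.tw m f) = D.tw (m * n) f :=
  MonoidHom.ext fun a => congrArg f (Subtype.ext (by simp [cj_apply, mul_assoc]))

theorem tw_one (f : D.Hom) : D.tw 1 f = f :=
  MonoidHom.ext fun a => congrArg f (Subtype.ext (by simp [cj_apply]))

theorem tw_trivial (n : D.N) : D.tw n 1 = 1 := MonoidHom.ext fun _ => rfl

theorem tw_of_mem (n : D.N) (hn : (n : G) ∈ D.W) (f : D.Hom) : D.tw n f = f :=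
  MonoidHom.ext fun a => congrArg f (Subtype.ext (by
    rw [cj_apply, D.comm _ hn _ a.2, mul_inv_cancel_right]))

/-- Only `W` fixes a nontrivial linear character. -/
theorem stab_eq {f : D.Hom} (hf : f ≠ 1) (n : D.N) (h : D.tw n f = f) : (n : G) ∈ D.W := by
  by_contra hn
  let k : D.W → D.W := fun a => D.cj n a * a⁻¹
  have hk : Function.Injective k := by
    intro a b hab
    have h1 : D.cj n (a * b⁻¹) = a * b⁻¹ := by
      simp only [k] at hab
      rw [map_mul, map_inv]
      have : D.cj n a = D.cj n b * b⁻¹ * a := by rw [← hab]; group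
      rw [this, mul_assoc (D.cj n b), D.commW (D.cj n b) (b⁻¹ * a), mul_inv_cancel_right,
        D.commW]
    have h2 := D.fpf n n.2 hn _ (a * b⁻¹).2 (congrArg Subtype.val h1)
    exact mul_inv_eq_one.1 (Subtype.ext h2)
  apply hf
  ext a
  obtain ⟨b, hb⟩ := Finite.surjective_of_injective hk a
  have h3 : f (D.cj n b) = f b := DFunLike.congr_fun h b
  simp [← hb, k, h3]

variable [Fintype D.Hom] [Fintype D.N] [Fintype D.W]

open scoped Classical in
/-- How often `f` meets the twists of `g`, times the order of `W`. -/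
def hits (f g : D.Hom) : ℕ := #({n : D.N | D.tw n g = f} : Finset D.N)

omit [Fintype D.Hom] in
theorem hits_sum_aux : Fintype.card D.N = D.e * D.w := by
  rw [← Nat.card_eq_fintype_card]; exact D.cardN

omit [Fintype D.Hom] in
theorem hits_orbit {g : D.Hom} (hg : g ≠ 1) (m : D.N) : D.hits (D.tw m g) g = D.w := by
  classical
  unfold hits w
  rw [Nat.card_eq_fintype_card, ← Finset.card_univ]
  symm
  refine Finset.card_bij (fun a _ => (⟨(a : G), D.le a.2⟩ : D.N) * m) ?_ ?_ ?_
  · intro a _
    simp only [Finset.mem_filter, Finset.mem_univ, true_and]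
    rw [← D.tw_tw, D.tw_of_mem ⟨(a : G), D.le a.2⟩ a.2]
  · intro a _ b _ hab
    exact Subtype.ext (congrArg Subtype.val (mul_right_cancel hab) :)
  · intro n hn
    simp only [Finset.mem_filter, Finset.mem_univ, true_and] at hn
    have hs : D.tw (n * m⁻¹) g = g := by
      rw [← D.tw_tw, hn, D.tw_tw, mul_inv_cancel, D.tw_one]
    refine ⟨⟨_, D.stab_eq hg _ hs⟩, Finset.mem_univ _, ?_⟩
    exact Subtype.ext (by simp)

omit [Fintype D.Hom] in
theorem hits_zero {f g : D.Hom} (h : ∀ n : D.N, D.tw n g ≠ f) : D.hits f g = 0 := by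
  classical
  unfold hits
  rw [Finset.card_eq_zero, Finset.filter_eq_empty_iff]
  exact fun n _ => h n

omit [Fintype D.Hom] in
theorem hits_one_one : D.hits 1 1 = D.e * D.w := by
  classical
  unfold hits
  rw [Finset.filter_true_of_mem (fun n _ => D.tw_trivial n), Finset.card_univ, D.hits_sum_aux]

theorem sum_hits (g : D.Hom) : ∑ f, D.hits f g = D.e * D.w := by
  classical
  unfold hits
  rw [← D.hits_sum_aux, ← Finset.card_univ]
  exact (Finset.card_eq_sum_card_fiberwise (fun n _ => Finset.mem_univ (D.tw n g))).symm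

theorem hits_of_ne {f : D.Hom} (hf : f ≠ 1) : D.hits f 1 = 0 :=
  D.hits_zero fun n h => hf (by rw [← h, D.tw_trivial])

theorem hits_one_of_ne {g : D.Hom} (hg : g ≠ 1) : D.hits 1 g = 0 :=
  D.hits_zero fun n h => hg (by
    have := congrArg (D.tw n⁻¹) h
    rwa [D.tw_tw, D.tw_trivial, mul_inv_cancel, D.tw_one] at this)

/-- The value of an induced function at a non-identity element of `W`. -/
theorem indFun_apply_mem (φ : D.W → ℂ) (a : D.W) (ha : a ≠ 1) :
    Cfsg.indFun D.W φ (a : G) = (D.w : ℂ)⁻¹ * ∑ n : D.N, φ (D.cj n a) := by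
  classical
  rw [Cfsg.Agent.CharInd.indFun_apply]
  congr 1
  have hz : ∀ x : G, x ∉ D.N → Cfsg.extendByZero D.W φ (x⁻¹ * a * x) = 0 := by
    intro x hx
    refine Cfsg.Agent.CharInd.extendByZero_notMem _ φ fun hmem => ha (Subtype.ext ?_)
    exact D.ti x⁻¹ (fun h => hx (by simpa using D.N.inv_mem h)) a a.2 (by simpa using hmem)
  rw [← Finset.sum_subset (Finset.subset_univ ({x : G | x ∈ D.N} : Finset G))
    (fun x _ hx => hz x (by simpa using hx)),
    Finset.sum_subtype (p := fun x => x ∈ D.N) _ (by simp)]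
  refine Fintype.sum_equiv (Equiv.inv D.N) _ _ fun n => ?_
  have e : ((D.cj n⁻¹ a : D.W) : G) = (n : G)⁻¹ * a * n := by simp [cj_apply]
  simp only [Equiv.inv_apply]
  rw [← e]
  exact Cfsg.Agent.CharInd.extendByZero_mem _ φ (D.cj n⁻¹ a).2

/-- Inner products of induced functions, one of which has degree zero. -/
theorem classInner_ind (φ ψ : D.W → ℂ) (hφ : φ 1 = 0) :
    Cfsg.classInner (Cfsg.indFun D.W φ) (Cfsg.indFun D.W ψ) =
      (D.w : ℂ)⁻¹ * ∑ n : D.N, Cfsg.classInner φ (fun a => ψ (D.cj n a)) := by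
  rw [Cfsg.Agent.CharInd.classInner_indFun_left D.W φ
    (Cfsg.Agent.CharInd.indFun_isClassFunction D.W ψ)]
  simp only [Cfsg.classInner]
  rw [← Finset.mul_sum, Finset.sum_comm]
  rw [← mul_assoc, mul_comm (D.w : ℂ)⁻¹, mul_assoc, Finset.mul_sum (a := (D.w : ℂ)⁻¹)]
  congr 1
  refine Finset.sum_congr rfl fun a _ => ?_
  by_cases ha : a = 1
  · simp [ha, hφ]
  · rw [D.indFun_apply_mem ψ a ha, map_mul, map_inv₀, Complex.conj_natCast, map_sum,
      ← Finset.mul_sum]
    ring

theorem sum_tw (f g : D.Hom) :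
    ∑ n : D.N, Cfsg.classInner (linFun f) (fun a => linFun g (D.cj n a)) = (D.hits f g : ℂ) := by
  classical
  have : ∀ n : D.N, (fun a => linFun g (D.cj n a)) = linFun (D.tw n g) := fun n => rfl
  simp only [this, classInner_linFun, hits]
  rw [Finset.sum_boole]
  congr 2
  exact Finset.filter_congr fun n _ => eq_comm

/-- Inner product of the inductions of two differences of linear characters. -/
theorem classInner_diff (f g f' g' : D.Hom) :
    Cfsg.classInner (Cfsg.indFun D.W (linFun f - linFun g))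
      (Cfsg.indFun D.W (linFun f' - linFun g')) =
      (((D.hits f f' : ℤ) - D.hits f g' - D.hits g f' + D.hits g g' : ℤ) : ℂ) / (D.w : ℂ) := by
  rw [D.classInner_ind _ _ (by simp [linFun])]
  have : ∀ n : D.N, (fun a => (linFun f' - linFun g') (D.cj n a)) =
      (fun a => linFun f' (D.cj n a)) - fun a => linFun g' (D.cj n a) := fun n => rfl
  simp only [this, Cfsg.Agent.Char.classInner_sub_left, Cfsg.Agent.Char.classInner_sub_right,
    Finset.sum_sub_distrib, D.sum_tw]
  push_cast
  rw [inv_mul_eq_div]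
  ring

/-- Frobenius reciprocity for a difference. -/
theorem classInner_diff_right {θ : G → ℂ} (hθ : Cfsg.IsClassFunction G θ) (f g : D.Hom) :
    Cfsg.classInner θ (Cfsg.indFun D.W (linFun f - linFun g)) =
      Cfsg.classInner (fun a : D.W => θ a) (linFun f) -
        Cfsg.classInner (fun a : D.W => θ a) (linFun g) := by
  rw [Cfsg.Agent.CharInd.classInner_indFun_right D.W _ hθ, Cfsg.Agent.Char.classInner_sub_right]

theorem isGen_diff (f g : D.Hom) :
    Cfsg.IsGeneralizedCharacter G (Cfsg.indFun D.W (linFun f - linFun g)) := by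
  rw [Cfsg.Agent.CharInd.indFun_sub]
  exact ⟨_, _, Cfsg.Agent.CharInd.isCharacter_indFun _
      (Cfsg.Agent.Char.isCharacter_of_irr (linFun_isIrr f)),
    Cfsg.Agent.CharInd.isCharacter_indFun _
      (Cfsg.Agent.Char.isCharacter_of_irr (linFun_isIrr g)), rfl⟩

theorem diff_one (f g : D.Hom) :
    Cfsg.indFun D.W (linFun f - linFun g) 1 = 0 :=
  Cfsg.Agent.CharInd.indFun_one_eq_zero _ (by simp [linFun])

/-- Being in the same orbit of `N`. -/
def orbitSetoid : Setoid {f : D.Hom // f ≠ 1} where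
  r f g := ∃ n : D.N, D.tw n f.1 = g.1
  iseqv :=
    { refl := fun f => ⟨1, D.tw_one _⟩
      symm := fun ⟨n, h⟩ => ⟨n⁻¹, by rw [← h, D.tw_tw, mul_inv_cancel, D.tw_one]⟩
      trans := fun ⟨n, h⟩ ⟨m, h'⟩ => ⟨n * m, by rw [← D.tw_tw, h, h']⟩ }

/-- Orbit representatives of the nontrivial linear characters. -/
theorem exists_reps : ∃ (t : ℕ) (L : Fin t → D.Hom), (∀ i, L i ≠ 1) ∧
    (∀ i j, D.hits (L i) (L j) = if i = j then D.w else 0) ∧
    (∀ f, f ≠ 1 → ∃ i, D.hits f (L i) = D.w ∧ ∀ j, j ≠ i → D.hits f (L j) = 0) ∧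
    D.e * t + 1 = D.w := by
  classical
  let J := Quotient D.orbitSetoid
  letI : Fintype J := Fintype.ofFinite J
  let eq := (Fintype.equivFin J).symm
  let L : Fin (Fintype.card J) → D.Hom := fun i => (Quotient.out (eq i)).1
  have hL : ∀ i, L i ≠ 1 := fun i => (Quotient.out (eq i)).2
  have hdist : ∀ i j (m n : D.N), D.tw m (L i) = D.tw n (L j) → i = j := by
    intro i j m n h
    apply eq.injective
    rw [← Quotient.out_eq (eq i), ← Quotient.out_eq (eq j)]
    refine Quotient.sound ⟨m * n⁻¹, ?_⟩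
    change D.tw (m * n⁻¹) (L i) = L j
    rw [← D.tw_tw, h, D.tw_tw, mul_inv_cancel, D.tw_one]
  have hcov : ∀ f : D.Hom, f ≠ 1 →
      ∃ i, D.hits f (L i) = D.w ∧ ∀ j, j ≠ i → D.hits f (L j) = 0 := by
    intro f hf
    let c : J := Quotient.mk D.orbitSetoid ⟨f, hf⟩
    obtain ⟨n, hn⟩ : ∃ n : D.N, D.tw n (L (eq.symm c)) = f := by
      have h := Quotient.mk_out (s := D.orbitSetoid) ⟨f, hf⟩
      obtain ⟨n, hn⟩ := h
      refine ⟨n, ?_⟩
      show D.tw n (Quotient.out (eq (eq.symm c))).1 = f
      rw [Equiv.apply_symm_apply]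
      exact hn
    refine ⟨eq.symm c, by conv_lhs => rw [← hn]
                          exact D.hits_orbit (hL _) n, fun j hj => D.hits_zero fun m hm => hj ?_⟩
    exact hdist _ _ m n (hm.trans hn.symm)
  refine ⟨Fintype.card J, L, hL, fun i j => ?_, hcov, ?_⟩
  · split_ifs with h
    · subst h
      conv_lhs => arg 2; rw [← D.tw_one (L i)]
      exact D.hits_orbit (hL i) 1
    · refine D.hits_zero fun n hn => h ?_
      exact (hdist j i n 1 (by rw [hn, D.tw_one])).symm
  · have h1 : ∀ f : D.Hom, ∑ i, D.hits f (L i) = if f = 1 then 0 else D.w := by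
      intro f
      split_ifs with h
      · subst h; exact Finset.sum_eq_zero fun i _ => D.hits_one_of_ne (hL i)
      · obtain ⟨i, hi, hz⟩ := hcov f h
        rw [Finset.sum_eq_single i (fun j _ hj => hz j hj)
          (fun hh => absurd (Finset.mem_univ _) hh), hi]
    have h2 : ∑ i, ∑ f, D.hits f (L i) = Fintype.card J * (D.e * D.w) := by
      simp [D.sum_hits]
    rw [Finset.sum_comm, Finset.sum_congr rfl fun f _ => h1 f, Finset.sum_ite, Finset.sum_const,
      Finset.sum_const, smul_zero, zero_add, Finset.filter_ne', Finset.card_erase_of_mem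
      (Finset.mem_univ _), smul_eq_mul, Finset.card_univ] at h2
    have hc : Fintype.card D.Hom = D.w := by
      have := card_hom (A := D.W) D.commW
      exact_mod_cast this
    rw [hc] at h2
    have h3 : D.w - 1 = Fintype.card J * D.e :=
      Nat.eq_of_mul_eq_mul_right D.w_pos (h2.trans (mul_assoc _ _ _).symm)
    have := D.w_pos
    rw [mul_comm D.e, ← h3]
    omega

end Data

end Cfsg.Agent.SingerTI
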