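import Cfsg.Agent.SingerTI.Exceptional
import Cfsg.Agent.Char.PermChar
import Cfsg.Agent.Char.Integrality

/-!
# Double transitivity from a semiregular trivial-intersection subgroup
-/

noncomputable section

namespace Cfsg.Agent.SingerTI

open scoped ComplexConjugate BigOperators
open Finset

universe u v

variable {G : Type u} [Group G] [Fintype G]

/-- An irreducible character with `W` in its kernel is trivial when `W` lies in no proper normal
subgroup. -/
theorem irr_eq_one_of_ker (W : Subgroup G) (hW : ∀ K : Subgroup G, K.Normal → W ≤ K → K = ⊤)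
    {θ : G → ℂ} (hθ : Cfsg.IsIrrCharacter G θ) (hk : ∀ a ∈ W, θ a = θ 1) :
    θ = fun _ => 1 := by
  obtain ⟨K, hKn, hK⟩ :=
    Cfsg.Agent.Char.isCharacter_exists_kernel (Cfsg.Agent.Char.isCharacter_of_irr hθ)
  have hall : ∀ g, θ g = θ 1 := fun g =>
    (hK g).1 (by rw [hW K hKn fun a ha => (hK a).2 (hk a ha)]; exact Subgroup.mem_top g)
  obtain ⟨d, hd, hd1⟩ := Cfsg.Agent.Char.irr_one_pos hθ
  have hn := Cfsg.Agent.Char.classInner_irr_self hθ
  simp only [Cfsg.classInner, hall, hd1, Complex.conj_natCast, Finset.sum_const, Finset.card_univ,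
    nsmul_eq_mul, ← Nat.card_eq_fintype_card] at hn
  rw [← mul_assoc, inv_mul_cancel₀ (Cfsg.Agent.Char.card_ne_zero_complex (G := G)), one_mul] at hn
  have hd2 : d * d = 1 := by exact_mod_cast hn
  have hdd : d = 1 := (mul_eq_one.1 hd2).1
  funext g
  rw [hall g, hd1, hdd, Nat.cast_one]

/-- Integer arithmetic: the exceptional degree is `e`. -/
theorem exc_arith {t w b e : ℕ} {ε d : ℤ} (het : e * t + 1 = w) (hw : 2 * e * e + 10 * e + 10 ≤ w)
    (he : 2 ≤ e) (hd : d = (w : ℤ) * b + e * ε) (hd0 : 0 < d)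
    (hε : ε = 1 ∨ ε = -1) (hb : (t : ℤ) * d ≤ e * w) : b = 0 ∧ ε = 1 := by
  have hb0 : b = 0 := by
    by_contra hne
    have h1 : (w : ℤ) ≤ w * b := by
      have : (1 : ℤ) ≤ b := by exact_mod_cast Nat.pos_of_ne_zero hne
      calc (w : ℤ) = w * 1 := by ring
        _ ≤ w * b := mul_le_mul_of_nonneg_left this (Int.natCast_nonneg w)
    have h2 : (w : ℤ) - e ≤ d := by
      rcases hε with rfl | rfl <;> linarith only [h1, hd, Int.natCast_nonneg e]
    have h3 : (t : ℤ) * (w - e) ≤ e * w :=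
      le_trans (mul_le_mul_of_nonneg_left h2 (Int.natCast_nonneg t)) hb
    have h4 : (e : ℤ) * t + 1 = w := by exact_mod_cast het
    have h5 : (2 * e * e + 10 * e + 10 : ℤ) ≤ w := by exact_mod_cast hw
    have h6 : (2 : ℤ) ≤ e := by exact_mod_cast he
    have h7 : ((w : ℤ) - 1) * (w - e) ≤ e * e * w := by
      have := mul_le_mul_of_nonneg_left h3 (Int.natCast_nonneg e)
      calc ((w : ℤ) - 1) * (w - e) = e * (t * (w - e)) := by rw [← h4]; ring
        _ ≤ e * (e * w) := this
        _ = e * e * w := by ring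
    nlinarith only [h7, h5, h6]
  refine ⟨hb0, ?_⟩
  subst hb0
  rcases hε with h | h
  · exact h
  · subst h; push_cast at hd; linarith only [hd, hd0, Int.natCast_nonneg e]

/-- A transitive group containing a semiregular trivial-intersection abelian subgroup `W` with
Frobenius normalizer is doubly transitive, if the degrees `a|W| - 1`, `a < e`, do not divide the
group order. -/
theorem two_transitive (D : Data G) {Ω : Type v} [MulAction G Ω] [Finite Ω]
    [MulAction.IsPretransitive G Ω] (hΩ : Nat.card Ω = D.e * D.w)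
    (hsemi : ∀ a ∈ D.W, a ≠ 1 → ∀ x : Ω, a • x ≠ x) (he : 2 ≤ D.e)
    (he5 : D.e ≤ 5)
    (hw : 2 * D.e * D.e + 10 * D.e + 10 ≤ D.w)
    (hnormal : ∀ K : Subgroup G, K.Normal → D.W ≤ K → K = ⊤)
    (hdiv : ∀ a, 0 < a → a < D.e → ¬ a * D.w - 1 ∣ Nat.card G) :
    MulAction.IsMultiplyPretransitive G Ω 2 := by
  classical
  letI : Fintype D.W := Fintype.ofFinite _
  letI : Fintype D.N := Fintype.ofFinite _
  letI : Fintype D.Hom := homFintype
  have hwne := D.w_ne
  obtain ⟨t, L, hL1, hLL, hcov, het⟩ := D.exists_reps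
  have ht8 : 8 ≤ t := by
    by_contra h
    have : D.e * t ≤ D.e * 7 := Nat.mul_le_mul_left _ (by omega)
    have : 0 ≤ 2 * D.e * D.e := Nat.zero_le _
    omega
  let i₀ : Fin t := ⟨0, by omega⟩
  have hLinj : ∀ i j, L i = L j → i = j := by
    intro i j h
    by_contra hij
    have h1 := hLL i i
    have h2 := hLL i j
    rw [if_pos rfl] at h1
    rw [if_neg hij, ← h, h1] at h2
    exact D.w_pos.ne' h2
  -- the differences and their Gram matrix
  let τ : Fin t → G → ℂ := fun i => Cfsg.indFun D.W (linFun (L i) - linFun (L i₀))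
  have hτ0 : τ i₀ = 0 := by simp [τ, Cfsg.Agent.CharInd.indFun_zero]
  have hgram : ∀ i j, i ≠ i₀ → j ≠ i₀ →
      Cfsg.classInner (τ i) (τ j) = if i = j then 2 else 1 := by
    intro i j hi hj
    simp only [τ]
    rw [D.classInner_diff, hLL, hLL, hLL, hLL, if_neg hi, if_neg (Ne.symm hj), if_pos rfl]
    split_ifs with h <;> push_cast <;> field_simp <;> ring
  obtain ⟨ε, hε, μ, hμirr, hμinj, hμ⟩ := Cfsg.Agent.CharInd.coherence_gram t i₀ τ hτ0
    (fun i => D.isGen_diff _ _) (fun i => D.diff_one _ _) hgram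
  obtain ⟨εz, hεz, hεe⟩ : ∃ z : ℤ, (z = 1 ∨ z = -1) ∧ ε = (z : ℂ) := by
    rcases hε with rfl | rfl
    · exact ⟨1, Or.inl rfl, by simp⟩
    · exact ⟨-1, Or.inr rfl, by simp⟩
  -- restriction multiplicities
  have hex : ∀ (θ : Cfsg.IrrCharacter G) (f : D.Hom), ∃ n : ℕ,
      Cfsg.classInner (fun a : D.W => (θ : G → ℂ) a) (linFun f) = n := fun θ f =>
    Cfsg.Agent.Char.isCharacter_classInner_nat
      (Cfsg.Agent.Char.isCharacter_restrict (Cfsg.Agent.Char.isCharacter_of_irr θ.2) D.W)
      ⟨_, linFun_isIrr f⟩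
  choose A hA using hex
  let mi : Fin t → Cfsg.IrrCharacter G := fun i => ⟨μ i, hμirr i⟩
  have hmi : Function.Injective mi := fun i j h => hμinj (congrArg Subtype.val h)
  -- a multiplicity is constant on orbits
  have horb : ∀ (θ : Cfsg.IrrCharacter G) (f : D.Hom), f ≠ 1 → ∀ i, D.hits f (L i) = D.w →
      A θ f = A θ (L i) := by
    intro θ f _ i hi
    obtain ⟨n, hn⟩ : ∃ n : D.N, D.tw n (L i) = f := by
      by_contra hne
      push Not at hne
      exact D.w_pos.ne' (hi.symm.trans (D.hits_zero hne))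
    subst hn
    have hcj : ∀ a : D.W, (θ : G → ℂ) (D.cj n a : D.W) = (θ : G → ℂ) a := fun a =>
      Cfsg.Agent.Char.irr_isClassFunction θ.2 (a : G) (n : G)
    have e : Cfsg.classInner (fun a : D.W => (θ : G → ℂ) a) (linFun (D.tw n (L i))) =
        Cfsg.classInner (fun a : D.W => (θ : G → ℂ) a) (linFun (L i)) := by
      simp only [Cfsg.classInner]
      congr 1
      refine Fintype.sum_equiv (Equiv.ofBijective (D.cj n) ?_) _ _ fun a => ?_
      · refine Finite.injective_iff_bijective.1 fun a b hab => Subtype.ext ?_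
        simpa [Data.cj_apply] using congrArg Subtype.val hab
      · simp only [Equiv.ofBijective_apply, hcj a]
        rfl
    exact_mod_cast (hA θ _).symm.trans (e.trans (hA θ _))
  -- multiplicities against the differences
  have hkey : ∀ (θ : Cfsg.IrrCharacter G) i, ((A θ (L i) : ℤ) - A θ (L i₀)) =
      εz * ((if θ = mi i then 1 else 0) - (if θ = mi i₀ then 1 else 0)) := by
    intro θ i
    have h1 : Cfsg.classInner (θ : G → ℂ) (τ i) = (A θ (L i) : ℂ) - A θ (L i₀) := by
      simp only [τ]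
      rw [D.classInner_diff_right (Cfsg.Agent.Char.irr_isClassFunction θ.2), hA, hA]
    have h2 : Cfsg.classInner (θ : G → ℂ) (τ i) =
        (εz : ℂ) * ((if θ = mi i then 1 else 0) - (if θ = mi i₀ then 1 else 0)) := by
      rw [hμ i, Cfsg.Agent.Char.classInner_smul_right, Cfsg.Agent.Char.classInner_sub_right,
        show μ i = ((mi i : Cfsg.IrrCharacter G) : G → ℂ) from rfl,
        show μ i₀ = ((mi i₀ : Cfsg.IrrCharacter G) : G → ℂ) from rfl,
        Cfsg.Agent.Char.classInner_irrCharacter, Cfsg.Agent.Char.classInner_irrCharacter, hεe,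
        map_intCast]
    have h3 := h1.symm.trans h2
    apply Int.cast_injective (α := ℂ)
    push_cast
    exact h3
  let b₀ : Cfsg.IrrCharacter G → ℤ :=
    fun θ => (A θ (L i₀) : ℤ) - εz * (if θ = mi i₀ then 1 else 0)
  have hAb : ∀ θ i, (A θ (L i) : ℤ) = b₀ θ + εz * (if θ = mi i then 1 else 0) := fun θ i => by
    simp only [b₀]; linarith only [hkey θ i]
  let c₀ : Cfsg.IrrCharacter G → ℤ := fun θ => (A θ 1 : ℤ) - b₀ θ
  -- degrees
  choose d hd0 hd using fun θ : Cfsg.IrrCharacter G => Cfsg.Agent.Char.irr_one_pos θ.2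
  have hdeg : ∀ θ, (d θ : ℤ) =
      (D.w : ℤ) * b₀ θ + c₀ θ + D.e * εz * ∑ i, (if θ = mi i then (1 : ℤ) else 0) := by
    intro θ
    have h1 : ((∑ f : D.Hom, A θ f : ℕ) : ℂ) = (d θ : ℂ) := by
      have h := expansion_one D.commW (fun a : D.W => (θ : G → ℂ) a)
      simp only [hA, OneMemClass.coe_one, hd] at h
      push_cast
      exact h
    have h2 : ∑ f : D.Hom, A θ f = d θ := by exact_mod_cast h1
    have h3 : ∀ i, ∑ f : D.Hom, D.hits f (L i) * A θ f = D.e * D.w * A θ (L i) := by
      intro i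
      rw [← D.sum_hits (L i), Finset.sum_mul]
      refine Finset.sum_congr rfl fun f _ => ?_
      by_cases hz : D.hits f (L i) = 0
      · simp [hz]
      by_cases hf : f = 1
      · exact absurd (hf ▸ D.hits_one_of_ne (hL1 i)) hz
      obtain ⟨j, hj, hjz⟩ := hcov f hf
      by_cases hij : i = j
      · subst hij; rw [horb θ f hf i hj]
      · exact absurd (hjz i hij) hz
    have h4 : ∀ f : D.Hom, ∑ i, D.hits f (L i) * A θ f =
        if f = 1 then 0 else D.w * A θ f := by
      intro f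
      rw [← Finset.sum_mul]
      split_ifs with hf
      · subst hf
        rw [Finset.sum_eq_zero fun i _ => D.hits_one_of_ne (hL1 i), zero_mul]
      · obtain ⟨j, hj, hjz⟩ := hcov f hf
        rw [Finset.sum_eq_single j (fun k _ hk => hjz k hk)
          (fun hh => absurd (Finset.mem_univ _) hh), hj]
    have h5 : D.w * ∑ f ∈ Finset.univ.erase (1 : D.Hom), A θ f =
        D.w * (D.e * ∑ i, A θ (L i)) := by
      have := Finset.sum_comm (s := (Finset.univ : Finset (Fin t))) (t := (Finset.univ : Finset D.Hom))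
        (f := fun i f => D.hits f (L i) * A θ f)
      simp only [h3, h4, Finset.sum_ite, Finset.sum_const_zero, zero_add, Finset.filter_ne'] at this
      rw [← Finset.mul_sum, ← Finset.mul_sum] at this
      rw [← this]; ring
    have h6 := Nat.eq_of_mul_eq_mul_left D.w_pos h5
    rw [← Finset.add_sum_erase _ _ (Finset.mem_univ (1 : D.Hom)), h6] at h2
    have h7 : (d θ : ℤ) = (A θ 1 : ℤ) + D.e * ∑ i, (A θ (L i) : ℤ) := by exact_mod_cast h2.symm
    have h8 : (D.e : ℤ) * t + 1 = D.w := by exact_mod_cast het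
    rw [h7]
    simp only [hAb, Finset.sum_add_distrib, Finset.sum_const, Finset.card_univ, Fintype.card_fin,
      nsmul_eq_mul, ← Finset.mul_sum, c₀]
    rw [← h8]; ring
  -- the functions of norm `e + 1`
  let β : Fin t → G → ℂ := fun i => Cfsg.indFun D.W (linFun 1 - linFun (L i))
  let cc : Cfsg.IrrCharacter G → Fin t → ℤ := fun θ i => (A θ 1 : ℤ) - A θ (L i)
  have hβcoef : ∀ (θ : Cfsg.IrrCharacter G) i, Cfsg.classInner (θ : G → ℂ) (β i) = (cc θ i : ℂ) := by
    intro θ i
    simp only [β, cc]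
    rw [D.classInner_diff_right (Cfsg.Agent.Char.irr_isClassFunction θ.2), hA, hA]
    push_cast; ring
  have hβgen : ∀ i, Cfsg.IsGeneralizedCharacter G (β i) := fun i => D.isGen_diff _ _
  have hβnorm : ∀ i, ∑ θ : Cfsg.IrrCharacter G, cc θ i ^ 2 = (D.e : ℤ) + 1 := by
    intro i
    have h1 : Cfsg.classInner (β i) (β i) = (((D.e : ℤ) + 1 : ℤ) : ℂ) := by
      simp only [β]
      rw [D.classInner_diff, D.hits_one_one, D.hits_one_of_ne (hL1 i), D.hits_of_ne (hL1 i),
        hLL, if_pos rfl]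
      push_cast; field_simp; ring
    have h2 := Cfsg.Agent.Char.classInner_eq_sum_mul_conj
      (b := β i) (Cfsg.Agent.Char.isGeneralizedCharacter_isClassFunction (hβgen i))
    rw [h1] at h2
    have h3 : ∀ θ : Cfsg.IrrCharacter G,
        Cfsg.classInner (β i) (θ : G → ℂ) * conj (Cfsg.classInner (β i) (θ : G → ℂ)) =
          (((cc θ i) ^ 2 : ℤ) : ℂ) := by
      intro θ
      rw [← Cfsg.Agent.Char.classInner_conj, hβcoef, map_intCast, map_intCast]
      push_cast; ring
    rw [Finset.sum_congr rfl fun θ _ => h3 θ] at h2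
    exact_mod_cast h2.symm
  have hccnot : ∀ θ, (∀ i, θ ≠ mi i) → ∀ i, cc θ i = c₀ θ := fun θ h i => by
    simp only [cc, c₀, hAb θ i, if_neg (h i)]; ring
  have hccmi : ∀ k i, cc (mi k) i = c₀ (mi k) - εz * (if k = i then 1 else 0) := fun k i => by
    simp only [cc, c₀, hAb (mi k) i, hmi.eq_iff]; ring
  have hdmi : ∀ k, (d (mi k) : ℤ) = (D.w : ℤ) * b₀ (mi k) + c₀ (mi k) + D.e * εz := fun k => by
    rw [hdeg]; simp [hmi.eq_iff]
  have hdnot : ∀ θ, (∀ i, θ ≠ mi i) → (d θ : ℤ) = (D.w : ℤ) * b₀ θ + c₀ θ := fun θ h => by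
    rw [hdeg]; simp [h]
  have hewz : (2 * D.e * D.e + 10 * D.e + 10 : ℤ) ≤ (D.w : ℤ) := by exact_mod_cast hw
  have hez : (2 : ℤ) ≤ D.e := by exact_mod_cast he
  have hsmall : ∀ θ i, |cc θ i| ≤ (D.e : ℤ) + 1 := by
    intro θ i
    have h1 : cc θ i ^ 2 ≤ (D.e : ℤ) + 1 := hβnorm i ▸
      Finset.single_le_sum (f := fun θ => cc θ i ^ 2) (fun _ _ => sq_nonneg _) (Finset.mem_univ θ)
    have h2 : |cc θ i| ≤ cc θ i ^ 2 := by
      rw [← sq_abs]
      rcases eq_or_ne (cc θ i) 0 with h | h
      · simp [h]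
      · have := Int.one_le_abs h; nlinarith only [this]
    exact h2.trans h1
  have hdeq : ∀ k, d (mi k) = d (mi i₀) := by
    intro k
    have h := congrFun (hμ k) 1
    simp only [τ, D.diff_one, Pi.smul_apply, Pi.sub_apply, smul_eq_mul] at h
    have hne : ε ≠ 0 := by rcases hε with rfl | rfl <;> norm_num
    have h1 := sub_eq_zero.1 ((mul_eq_zero.1 h.symm).resolve_left hne)
    have h2 : (d (mi k) : ℂ) = (d (mi i₀) : ℂ) := by rw [← hd, ← hd]; exact h1
    exact_mod_cast h2
  have hoff : ∀ k, |c₀ (mi k)| ≤ (D.e : ℤ) + 1 := by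
    intro k
    obtain ⟨i, hi⟩ : ∃ i : Fin t, k ≠ i :=
      ⟨if k = i₀ then ⟨1, by omega⟩ else i₀, by
        split_ifs with h
        · subst h; intro h; simp [i₀, Fin.ext_iff] at h
        · exact h⟩
    have := hsmall (mi k) i
    rwa [hccmi, if_neg hi, mul_zero, sub_zero] at this
  have hbconst : ∀ k, b₀ (mi k) = b₀ (mi i₀) ∧ c₀ (mi k) = c₀ (mi i₀) := by
    intro k
    have h : (D.w : ℤ) * b₀ (mi k) + c₀ (mi k) = D.w * b₀ (mi i₀) + c₀ (mi i₀) := by
      have := hdmi k; have := hdmi i₀; have := hdeq k; omega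
    have h2 := abs_le.1 (hoff k)
    have h3 := abs_le.1 (hoff i₀)
    have h4 : b₀ (mi k) = b₀ (mi i₀) := by
      rcases lt_trichotomy (b₀ (mi k)) (b₀ (mi i₀)) with hlt | heq | hgt
      · exfalso
        have hm := mul_le_mul_of_nonneg_left (a := (D.w : ℤ)) (show b₀ (mi k) + 1 ≤ b₀ (mi i₀) by omega)
          (Int.natCast_nonneg _)
        nlinarith only [h, h2.1, h2.2, h3.1, h3.2, hm, hewz, hez]
      · exact heq
      · exfalso
        have hm := mul_le_mul_of_nonneg_left (a := (D.w : ℤ)) (show b₀ (mi i₀) + 1 ≤ b₀ (mi k) by omega)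
          (Int.natCast_nonneg _)
        nlinarith only [h, h2.1, h2.2, h3.1, h3.2, hm, hewz, hez]
    exact ⟨h4, by rw [h4] at h; linarith only [h]⟩
  have hc0 : c₀ (mi i₀) = 0 := by
    by_contra hne
    have h1 : ∑ k : Fin t, cc (mi k) i₀ ^ 2 ≤ (D.e : ℤ) + 1 := by
      rw [← hβnorm i₀, ← Finset.sum_image (s := Finset.univ) (g := mi)
        (f := fun θ => cc θ i₀ ^ 2) (fun a _ b _ h => hmi h)]
      exact Finset.sum_le_sum_of_subset_of_nonneg (Finset.subset_univ _)
        (fun _ _ _ => sq_nonneg _)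
    have h2 : ∀ k : Fin t, (if k = i₀ then 0 else 1 : ℤ) ≤ cc (mi k) i₀ ^ 2 := by
      intro k
      split_ifs with h
      · exact sq_nonneg _
      · rw [hccmi, if_neg h, mul_zero, sub_zero, (hbconst k).2]
        exact Int.one_le_abs (pow_ne_zero 2 hne) |>.trans_eq (abs_of_nonneg (sq_nonneg _))
    have h3 := (Finset.sum_le_sum fun k (_ : k ∈ Finset.univ) => h2 k).trans h1
    simp [Finset.sum_ite, Finset.filter_ne', Finset.card_univ] at h3
    have h4 : (D.e : ℤ) * t + 1 = D.w := by exact_mod_cast het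
    have h5 : ((t - 1 : ℕ) : ℤ) = (t : ℤ) - 1 := by omega
    nlinarith only [h3, h4, h5, hewz, hez]
  have hc0k : ∀ k, c₀ (mi k) = 0 := fun k => (hbconst k).2.trans hc0
  -- the permutation character
  let π : G → ℂ := Cfsg.Agent.Char.permChar Ω
  have hπ : Cfsg.IsCharacter G π := Cfsg.Agent.Char.isCharacter_permChar Ω
  obtain ⟨m, hπm, hmval⟩ := Cfsg.Agent.Char.isCharacter_exists_coeff hπ
  have hπW : ∀ f : D.Hom, Cfsg.classInner (fun a : D.W => π a) (linFun f) = (D.e : ℂ) := by
    intro f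
    simp only [Cfsg.classInner]
    rw [Finset.sum_eq_single (1 : D.W)]
    · simp [π, Cfsg.Agent.Char.permChar, linFun, hΩ, MulAction.fixedBy]
      rw [show (Fintype.card D.W : ℂ) = (D.w : ℂ) by rw [Data.w, Nat.card_eq_fintype_card]]
      field_simp
    · intro a _ ha
      have : π (a : G) = 0 := by
        simp only [π, Cfsg.Agent.Char.permChar, Nat.cast_eq_zero]
        haveI : IsEmpty (MulAction.fixedBy Ω (a : G)) :=
          ⟨fun x => hsemi a a.2 (fun h => ha (Subtype.ext h)) x.1 x.2⟩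
        exact Nat.card_of_isEmpty
      simp [this]
    · exact fun h => absurd (Finset.mem_univ _) h
  have hresm : ∀ f : D.Hom, ∑ θ, (m θ : ℤ) * A θ f = D.e := by
    intro f
    have h := hπW f
    have e : (fun a : D.W => π a) = ∑ θ : Cfsg.IrrCharacter G,
        (m θ : ℂ) • fun a : D.W => (θ : G → ℂ) a := by
      funext a
      rw [hπm]; simp [Finset.sum_apply]
    rw [e, Cfsg.Agent.Char.classInner_sum_left] at h
    simp only [Cfsg.Agent.Char.classInner_smul_left, hA] at h
    exact_mod_cast h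
  have hmconst : ∀ k, m (mi k) = m (mi i₀) := by
    intro k
    have h : ∑ θ, (m θ : ℤ) * ((A θ (L k) : ℤ) - A θ (L i₀)) = 0 := by
      simp [mul_sub, Finset.sum_sub_distrib, hresm]
    simp only [hkey, mul_sub, Finset.sum_sub_distrib] at h
    simp only [mul_ite, mul_one, mul_zero, Finset.sum_ite_eq', Finset.mem_univ, if_true] at h
    have h' : εz * ((m (mi k) : ℤ) - m (mi i₀)) = 0 := by linarith only [h]
    rcases hεz with hz | hz <;> rw [hz] at h' <;> omega
  have hπdeg : ∑ θ, (m θ : ℤ) * d θ = (D.e : ℤ) * D.w := by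
    have h : π 1 = ((D.e * D.w : ℕ) : ℂ) := by
      simp [π, Cfsg.Agent.Char.permChar, MulAction.fixedBy, hΩ]
    rw [hπm, Finset.sum_apply] at h
    simp only [Pi.smul_apply, nsmul_eq_mul, hd] at h
    exact_mod_cast h
  let one : Cfsg.IrrCharacter G := ⟨fun _ => 1, Cfsg.Agent.Char.isIrrCharacter_const_one⟩
  have hA1 : ∀ f : D.Hom, A one f = if f = 1 then 1 else 0 := by
    intro f
    have h := hA one f
    have e : (fun a : D.W => (one : G → ℂ) a) = linFun (1 : D.Hom) := linFun_one.symm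
    rw [e, classInner_linFun] at h
    by_cases hf : f = 1
    · subst hf; simp at h; simp; exact_mod_cast h.symm
    · rw [if_neg (Ne.symm hf)] at h; rw [if_neg hf]; exact_mod_cast h.symm
  have hdone : d one = 1 := by
    have h : (d one : ℂ) = ((1 : ℕ) : ℂ) := by rw [← hd, Nat.cast_one]
    exact_mod_cast h
  have hm1 : m one = 1 := by
    haveI : Nonempty Ω := (Nat.card_pos_iff.mp (by rw [hΩ]; exact Nat.mul_pos (by omega) D.w_pos)).1
    have h := hmval one
    rw [show ((one : Cfsg.IrrCharacter G) : G → ℂ) = fun _ => 1 from rfl,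
      Cfsg.Agent.Char.classInner_permChar_one,
      Cfsg.Agent.Char.card_orbits_eq_one_of_pretransitive, Nat.cast_one] at h
    exact_mod_cast h.symm
  have hone_not : ∀ i, one ≠ mi i := by
    intro i h
    have h1 := hdmi i
    rw [← h, hdone] at h1
    have h2 := hAb one i
    rw [hA1, if_neg (hL1 i), if_pos h] at h2
    rw [h, hc0k, ← h] at h1
    push_cast at h1 h2
    have h3 : b₀ one = -εz := by linarith only [h2]
    rw [h3] at h1
    rcases hεz with hz | hz <;> rw [hz] at h1 <;> nlinarith only [h1, hewz, hez]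
  -- the exceptional characters are not constituents
  have hzero : m (mi i₀) = 0 := by
    by_contra hne
    have h1 : (t : ℤ) * d (mi i₀) ≤ D.e * D.w := by
      rw [← hπdeg]
      calc (t : ℤ) * d (mi i₀) = ∑ _k : Fin t, (1 : ℤ) * d (mi i₀) := by simp
        _ ≤ ∑ k : Fin t, (m (mi k) : ℤ) * d (mi k) := Finset.sum_le_sum fun k _ => by
            rw [hdeq k, hmconst k]
            exact mul_le_mul_of_nonneg_right (by exact_mod_cast Nat.pos_of_ne_zero hne)
              (Int.natCast_nonneg _)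
        _ = ∑ θ ∈ Finset.univ.image mi, (m θ : ℤ) * d θ :=
            (Finset.sum_image (f := fun θ => (m θ : ℤ) * d θ) fun a _ b _ h => hmi h).symm
        _ ≤ _ := Finset.sum_le_sum_of_subset_of_nonneg (Finset.subset_univ _)
            (fun θ _ _ => by positivity)
    have hb : b₀ (mi i₀) = (A (mi i₀) 1 : ℤ) := by
      have h0 : (A (mi i₀) 1 : ℤ) - b₀ (mi i₀) = 0 := hc0
      omega
    obtain ⟨hb0, hε1⟩ := exc_arith (b := A (mi i₀) 1) (d := (d (mi i₀) : ℤ)) het hw he
      (by rw [hdmi, hc0, hb]; ring) (by exact_mod_cast hd0 _) hεz h1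
    have hA0 : ∀ k, A (mi k) 1 = 0 := by
      intro k
      have h2 := hc0k k
      simp only [c₀] at h2
      rw [(hbconst k).1, hb, hb0] at h2
      omega
    have hde : d (mi i₀) = D.e := by
      have := hdmi i₀
      rw [hc0, hb, hb0, hε1] at this
      push_cast at this
      omega
    have hA01 : ∀ f : D.Hom, A (mi i₀) f = 0 ∨ A (mi i₀) f = 1 := by
      intro f
      by_cases hf : f = 1
      · exact Or.inl (hf ▸ hA0 i₀)
      obtain ⟨i, hi, -⟩ := hcov f hf
      rw [horb _ f hf i hi]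
      have := hAb (mi i₀) i
      rw [hb, hb0, hε1] at this
      split_ifs at this <;> omega
    let χ : G → ℂ := μ i₀ * fun g => conj (μ i₀ g)
    have hμc := Cfsg.Agent.Char.isCharacter_of_irr (hμirr i₀)
    have hχ : Cfsg.IsCharacter G χ :=
      Cfsg.Agent.Char.isCharacter_mul hμc (Cfsg.Agent.Char.isCharacter_conjFun hμc)
    obtain ⟨k, hχk, hkval⟩ := Cfsg.Agent.Char.isCharacter_exists_coeff hχ
    have hχdeg : ∑ θ, (k θ : ℤ) * d θ = (D.e : ℤ) * D.e := by
      have h : χ 1 = ((D.e * D.e : ℕ) : ℂ) := by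
        show μ i₀ 1 * conj (μ i₀ 1) = _
        rw [show μ i₀ 1 = (d (mi i₀) : ℂ) from hd (mi i₀), hde, Complex.conj_natCast, Nat.cast_mul]
      rw [hχk, Finset.sum_apply] at h
      simp only [Pi.smul_apply, nsmul_eq_mul, hd] at h
      exact_mod_cast h
    have hk1 : k one = 1 := by
      have h := hkval one
      have e : Cfsg.classInner χ (one : G → ℂ) = Cfsg.classInner (μ i₀) (μ i₀) := by
        simp [Cfsg.classInner, χ, one]
      rw [e, Cfsg.Agent.Char.classInner_irr_self (hμirr i₀)] at h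
      exact_mod_cast h.symm
    have hkA : ∀ θ, θ ≠ one → k θ * A θ 1 = 0 := by
      intro θ hθ
      by_contra h
      have hk0 : k θ ≠ 0 := fun h' => h (by simp [h'])
      have hA0' : A θ 1 ≠ 0 := fun h' => h (by simp [h'])
      by_cases hex : ∃ i, θ = mi i
      · obtain ⟨i, rfl⟩ := hex; exact hA0' (hA0 i)
      push Not at hex
      have hd2 : (d θ : ℤ) ≤ D.e * D.e := by
        rw [← hχdeg]
        refine le_trans ?_ (Finset.single_le_sum (f := fun θ => (k θ : ℤ) * d θ)
          (fun x _ => by positivity) (Finset.mem_univ θ))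
        exact le_mul_of_one_le_left (Int.natCast_nonneg _)
          (by exact_mod_cast Nat.pos_of_ne_zero hk0)
      have hb' : b₀ θ = 0 := by
        have h1 := hdnot θ hex
        have h2 : |c₀ θ| ≤ (D.e : ℤ) + 1 := by
          have := hsmall θ i₀; rwa [hccnot θ hex] at this
        have h3 := abs_le.1 h2
        have h4 : 0 ≤ b₀ θ := by
          have := hAb θ i₀; rw [if_neg (hex i₀)] at this; omega
        by_contra hne'
        have h5 : (D.w : ℤ) ≤ D.w * b₀ θ := le_mul_of_one_le_right (Int.natCast_nonneg _) (by omega)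
        nlinarith only [h1, hd2, h3.1, h5, hewz, hez]
      refine hθ (Subtype.ext (irr_eq_one_of_ker D.W hnormal θ.2 fun a ha => ?_))
      have hexp : ∀ a : D.W, (θ : G → ℂ) a = (A θ 1 : ℂ) := by
        intro a
        rw [← expansion D.commW (fun a : D.W => (θ : G → ℂ) a) a, Finset.sum_eq_single (1 : D.Hom)]
        · simp [hA]
        · intro f _ hf
          obtain ⟨i, hi, -⟩ := hcov f hf
          have := hAb θ i
          rw [if_neg (hex i), hb', ← horb θ f hf i hi] at this
          rw [hA, show A θ f = 0 by omega]; simp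
        · exact fun h => absurd (Finset.mem_univ _) h
      exact (hexp ⟨a, ha⟩).trans (hexp 1).symm
    have h2 : Cfsg.classInner (fun a : D.W => χ a) (linFun 1) = 1 := by
      have e : (fun a : D.W => χ a) = ∑ θ : Cfsg.IrrCharacter G,
          (k θ : ℂ) • fun a : D.W => (θ : G → ℂ) a := by
        funext a
        rw [hχk]; simp [Finset.sum_apply]
      rw [e, Cfsg.Agent.Char.classInner_sum_left]
      simp only [Cfsg.Agent.Char.classInner_smul_left, hA]
      rw [Finset.sum_eq_single one]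
      · rw [hk1, hA1, if_pos rfl]; simp
      · intro θ _ hθ
        exact_mod_cast hkA θ hθ
      · exact fun h => absurd (Finset.mem_univ _) h
    have h3 : Cfsg.classInner (fun a : D.W => χ a) (linFun 1) = (D.e : ℂ) := by
      have e : Cfsg.classInner (fun a : D.W => χ a) (linFun 1) =
          Cfsg.classInner (fun a : D.W => μ i₀ a) (fun a : D.W => μ i₀ a) := by
        simp [Cfsg.classInner, linFun, χ]
      rw [e, parseval D.commW]
      have hA' : ∀ f, Cfsg.classInner (fun a : D.W => μ i₀ a) (linFun f) = (A (mi i₀) f : ℂ) :=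
        hA (mi i₀)
      simp only [hA', Complex.conj_natCast]
      rw [show ∑ f : D.Hom, (A (mi i₀) f : ℂ) * A (mi i₀) f = ∑ f : D.Hom, (A (mi i₀) f : ℂ) from
        Finset.sum_congr rfl fun f _ => by rcases hA01 f with h | h <;> simp [h]]
      have h := expansion_one D.commW (fun a : D.W => μ i₀ a)
      simp only [hA', OneMemClass.coe_one] at h
      rw [h, show μ i₀ 1 = (d (mi i₀) : ℂ) from hd (mi i₀), hde]
    have h4 : ((D.e : ℕ) : ℂ) = ((1 : ℕ) : ℂ) := by rw [← h3, h2, Nat.cast_one]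
    have h5 : D.e = 1 := by exact_mod_cast h4
    omega
  have hmi0 : ∀ k, m (mi k) = 0 := fun k => (hmconst k).trans hzero
  have hnotexc : ∀ θ, m θ ≠ 0 → ∀ i, θ ≠ mi i := fun θ hθ i h => hθ (h ▸ hmi0 i)
  -- a constituent with negative coefficient
  have hsum : ∑ θ, (m θ : ℤ) * cc θ i₀ = 0 := by
    simp [cc, mul_sub, Finset.sum_sub_distrib, hresm]
  have hccone : cc one i₀ = 1 := by simp [cc, hA1, hL1]
  obtain ⟨θ, hθ⟩ : ∃ θ, (m θ : ℤ) * cc θ i₀ < 0 := by
    by_contra h
    push Not at h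
    have h1 := Finset.single_le_sum (f := fun θ => (m θ : ℤ) * cc θ i₀) (fun x _ => h x)
      (Finset.mem_univ one)
    rw [hsum, hm1, hccone] at h1
    norm_num at h1
  have hmθ : m θ ≠ 0 := fun h => by simp [h] at hθ
  have hneg : c₀ θ < 0 := by
    rw [hccnot θ (hnotexc θ hmθ)] at hθ
    exact neg_of_mul_neg_right hθ (Int.natCast_nonneg _)
  have hθone : θ ≠ one := fun h => by
    subst h; rw [hccnot _ (hnotexc _ hmθ)] at hccone; omega
  have hsq : ∀ x y z : Cfsg.IrrCharacter G, x ≠ y → x ≠ z → y ≠ z →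
      cc x i₀ ^ 2 + cc y i₀ ^ 2 + cc z i₀ ^ 2 ≤ (D.e : ℤ) + 1 := by
    intro x y z hxy hxz hyz
    rw [← hβnorm i₀]
    refine le_trans (le_of_eq ?_) (Finset.sum_le_sum_of_subset_of_nonneg
      (Finset.subset_univ {x, y, z}) (fun _ _ _ => sq_nonneg _))
    rw [Finset.sum_insert (by simp [hxy, hxz]), Finset.sum_pair hyz]
    ring
  -- the constituent has degree `e w - 1`
  have hb1 : 1 ≤ b₀ θ := by
    have h1 := hdnot θ (hnotexc θ hmθ)
    have h2 := hd0 θ
    by_contra h
    have h3 : (D.w : ℤ) * b₀ θ ≤ 0 := mul_nonpos_of_nonneg_of_nonpos (Int.natCast_nonneg _) (by omega)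
    omega
  have hbe : b₀ θ ≤ (D.e : ℤ) := by
    have h1 := hresm (L i₀)
    have h2 := hAb θ i₀
    rw [if_neg (hnotexc θ hmθ i₀), mul_zero, add_zero] at h2
    rw [← h2]
    refine le_trans ?_ (h1 ▸ Finset.single_le_sum (f := fun θ => (m θ : ℤ) * A θ (L i₀))
      (fun x _ => by positivity) (Finset.mem_univ θ))
    exact le_mul_of_one_le_left (Int.natCast_nonneg _) (by exact_mod_cast Nat.pos_of_ne_zero hmθ)
  have hcc : c₀ θ = -1 → False ∨ b₀ θ = (D.e : ℤ) := by
    intro hc
    by_contra h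
    push Not at h
    have hlt : b₀ θ < (D.e : ℤ) := lt_of_le_of_ne hbe h.2
    obtain ⟨a, ha⟩ : ∃ a : ℕ, (a : ℤ) = b₀ θ := ⟨(b₀ θ).toNat, Int.toNat_of_nonneg (by omega)⟩
    refine hdiv a (by omega) (by omega) ?_
    obtain ⟨d', _, hd', hdvd⟩ := Cfsg.Agent.Char.irr_degree_dvd_card θ.2
    have h1 : d θ = d' := by
      have : (d θ : ℂ) = (d' : ℂ) := by rw [← hd, hd']
      exact_mod_cast this
    have h2 : (d θ : ℤ) = ((a * D.w : ℕ) : ℤ) - 1 := by
      rw [hdnot θ (hnotexc θ hmθ), hc, ← ha]; push_cast; ring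
    rwa [show a * D.w - 1 = d θ by omega, h1]
  by_cases hm1' : c₀ θ = -1
  · have hb := (hcc hm1').resolve_left id
    have hdθ : (d θ : ℤ) = (D.e : ℤ) * D.w - 1 := by
      rw [hdnot θ (hnotexc θ hmθ), hm1', hb]; ring
    have h1 : (m θ : ℤ) * d θ + (m one : ℤ) * d one ≤ (D.e : ℤ) * D.w := by
      rw [← hπdeg, ← Finset.sum_pair (f := fun x => (m x : ℤ) * d x) hθone]
      exact Finset.sum_le_sum_of_subset_of_nonneg (Finset.subset_univ _)
        (fun x _ _ => by positivity)
    rw [hm1, hdone, hdθ] at h1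
    have hbig : (2 : ℤ) * 3 ≤ (D.e : ℤ) * D.w :=
      mul_le_mul hez (by nlinarith only [hewz, hez]) (by norm_num) (Int.natCast_nonneg _)
    have hm2 : m θ = 1 := by
      by_contra h2
      have h3 : (2 : ℤ) ≤ m θ := by exact_mod_cast (show 2 ≤ m θ by omega)
      push_cast at h1
      nlinarith only [h1, h3, hbig]
    have hrest : ∀ x, x ≠ θ → x ≠ one → m x = 0 := by
      intro x hx hx1
      by_contra h2
      have h3 : (m x : ℤ) * d x + ((m θ : ℤ) * d θ + (m one : ℤ) * d one) ≤ (D.e : ℤ) * D.w := by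
        rw [← hπdeg, ← Finset.sum_pair (f := fun x => (m x : ℤ) * d x) hθone,
          ← Finset.sum_insert (f := fun x => (m x : ℤ) * d x)
            (show x ∉ ({θ, one} : Finset _) by simp [hx, hx1])]
        exact Finset.sum_le_sum_of_subset_of_nonneg (Finset.subset_univ _)
          (fun x _ _ => by positivity)
      rw [hm1, hdone, hdθ, hm2] at h3
      have : 0 < (m x : ℤ) * d x :=
        mul_pos (by exact_mod_cast Nat.pos_of_ne_zero h2) (by exact_mod_cast hd0 x)
      push_cast at h3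
      omega
    have hθπ : (θ : G → ℂ) = fun g => π g - 1 := by
      funext g
      rw [hπm, Finset.sum_apply, ← Finset.add_sum_erase _ _ (Finset.mem_univ θ),
        ← Finset.add_sum_erase _ _ (Finset.mem_erase.2 ⟨Ne.symm hθone, Finset.mem_univ one⟩),
        Finset.sum_eq_zero (fun x hx => by
          simp only [Finset.mem_erase, Finset.mem_univ, and_true] at hx
          simp [hrest x hx.2 hx.1])]
      simp [hm2, hm1, one]
    have h2Ω : 2 ≤ Nat.card Ω := by rw [hΩ]; have := Nat.mul_le_mul he D.w_pos; omega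
    exact (Cfsg.Agent.Char.isIrrCharacter_permChar_sub_one_iff Ω h2Ω).1 (hθπ ▸ θ.2)
  · -- a coefficient at most `-2` contradicts the norm, by parity when `e ≤ 5`
    exfalso
    have hc2 : c₀ θ ≤ -2 := by omega
    have hccθ : cc θ i₀ = c₀ θ := hccnot θ (hnotexc θ hmθ) i₀
    have hμsq : cc (mi i₀) i₀ ^ 2 = 1 := by
      rw [hccmi, hc0, if_pos rfl]; rcases hεz with hz | hz <;> rw [hz] <;> norm_num
    have hθmi : θ ≠ mi i₀ := hnotexc θ hmθ i₀
    have h3 := hsq θ one (mi i₀) hθone hθmi (hone_not i₀)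
    rw [hccone, hμsq, hccθ] at h3
    have he5' : (D.e : ℤ) ≤ 5 := by exact_mod_cast he5
    have hc' : c₀ θ = -2 := by nlinarith only [h3, hc2, he5']
    have hother : ∀ x, x ≠ θ → x ≠ one → (m x : ℤ) * cc x i₀ = 0 := by
      intro x hx hx1
      by_cases hxm : x = mi i₀
      · rw [hxm, hzero]; simp
      have h4 : cc x i₀ ^ 2 + (cc θ i₀ ^ 2 + (cc one i₀ ^ 2 + cc (mi i₀) i₀ ^ 2)) ≤ (D.e : ℤ) + 1 := by
        rw [← hβnorm i₀, ← Finset.sum_pair (f := fun y => cc y i₀ ^ 2) (hone_not i₀),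
          ← Finset.sum_insert (f := fun y => cc y i₀ ^ 2)
            (show θ ∉ ({one, mi i₀} : Finset _) by simp [hθone, hθmi]),
          ← Finset.sum_insert (f := fun y => cc y i₀ ^ 2)
            (show x ∉ ({θ, one, mi i₀} : Finset _) by simp [hx, hx1, hxm])]
        exact Finset.sum_le_sum_of_subset_of_nonneg (Finset.subset_univ _)
          (fun _ _ _ => sq_nonneg _)
      rw [hccone, hμsq, hccθ, hc'] at h4
      have h5 : cc x i₀ ^ 2 = 0 := le_antisymm (by linarith only [h4, he5']) (sq_nonneg _)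
      rw [pow_eq_zero_iff two_ne_zero] at h5
      rw [h5, mul_zero]
    rw [← Finset.add_sum_erase _ _ (Finset.mem_univ θ),
      ← Finset.add_sum_erase _ _ (Finset.mem_erase.2 ⟨Ne.symm hθone, Finset.mem_univ one⟩),
      Finset.sum_eq_zero (fun x hx => by
        simp only [Finset.mem_erase, Finset.mem_univ, and_true] at hx
        exact hother x hx.2 hx.1), hccθ, hc', hm1, hccone] at hsum
    omega

end Cfsg.Agent.SingerTI
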